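import Groth.Agent.Lib.GeomSmoothing3.Model
import Groth.Agent.Lib.Descend.EtaleGlobal
import Groth.Agent.Lib.DGen9.FibEuler
import Groth.Agent.Lib.FibDepth5.Comps2
import Groth.Agent.Lib.CurveR1_10.Basic
import Groth.Agent.Lib.AmpleFib.CurveRel
import Groth.Agent.Lib.CurveCoh17.Vanish
import Groth.Agent.Lib.GeomIrr18.Scheme
import Groth.Agent.S0223
import Groth.Agent.S1536
import Groth.Agent.S2553
import Groth.Agent.S4642

/-!
# Models over finitely generated rings of smooth curves of a given genus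
-/

set_option autoImplicit false
set_option linter.style.haveILetI false
set_option backward.isDefEq.respectTransparency false
set_option backward.isDefEq.respectTransparency.types false
set_option backward.defeqAttrib.useBackward true
universe u

open CategoryTheory CategoryTheory.Limits AlgebraicGeometry Opposite TopologicalSpace

namespace Groth.Agent.CurveModel9

theorem geometricallyConnected_descend {k K : Type u} [Field k] [Field K] {W Z : Scheme.{u}}
    {m : W ⟶ Z} {q : W ⟶ Spec (CommRingCat.of K)} {p : Z ⟶ Spec (CommRingCat.of k)}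
    {φ : Spec (CommRingCat.of K) ⟶ Spec (CommRingCat.of k)} (sq : IsPullback m q p φ)
    [GeometricallyConnected q] : GeometricallyConnected p := by
  refine ⟨geometrically_iff_of_isClosedUnderIsomorphisms.mpr fun L _ y => ?_⟩
  obtain ⟨w, -, -⟩ := Scheme.Pullback.exists_preimage_pullback (f := y) (g := φ) (IsLocalRing.closedPoint L)
    (IsLocalRing.closedPoint K) (Subsingleton.elim (α := PrimeSpectrum k) _ _)
  let τ := (pullback y φ).fromSpecResidueField w
  have hτ : (τ ≫ pullback.fst y φ) ≫ y = (τ ≫ pullback.snd y φ) ≫ φ := by simp [pullback.condition]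
  let W' := pullback q (τ ≫ pullback.snd y φ)
  haveI : ConnectedSpace ↥W' :=
    GeometricallyConnected.geometrically_connectedSpace (f := q) (τ ≫ pullback.snd y φ) _ _
      (IsPullback.of_hasPullback _ _)
  have sq0 : IsPullback (pullback.fst q (τ ≫ pullback.snd y φ) ≫ m) (pullback.snd q (τ ≫ pullback.snd y φ)) p
      ((τ ≫ pullback.fst y φ) ≫ y) := by
    rw [hτ]
    exact (IsPullback.of_hasPullback q _).paste_horiz sq
  let M : W' ⟶ pullback p y := pullback.lift (pullback.fst q (τ ≫ pullback.snd y φ) ≫ m)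
    (pullback.snd q (τ ≫ pullback.snd y φ) ≫ τ ≫ pullback.fst y φ) (by rw [sq0.w]; simp)
  have hM : M ≫ pullback.fst p y = pullback.fst q (τ ≫ pullback.snd y φ) ≫ m := pullback.lift_fst _ _ _
  have sq1 : IsPullback M (pullback.snd q (τ ≫ pullback.snd y φ)) (pullback.snd p y) (τ ≫ pullback.fst y φ) :=
    IsPullback.of_right (by rw [hM]; exact sq0) (pullback.lift_snd _ _ _) (IsPullback.of_hasPullback p y)
  haveI : Surjective (τ ≫ pullback.fst y φ) :=
    ⟨fun z => ⟨IsLocalRing.closedPoint ((pullback y φ).residueField w), Subsingleton.elim (α := PrimeSpectrum L) _ _⟩⟩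
  haveI : Surjective M := MorphismProperty.of_isPullback (P := @Surjective) sq1.flip inferInstance
  exact GeomIrr.connectedSpace_of_surjective M

/-- The genus of a fibre. -/
noncomputable abbrev fgenus {X S : Scheme.{u}} (f : X ⟶ S) (s : S) : ℕ :=
  letI : (f.fiber s).Over (Spec (S.residueField s)) := ⟨f.fiberToSpecResidueField s⟩
  Curv2.genus (S.residueField s) (f.fiber s)

/-- A point with fibre a geometrically integral curve of genus `g`. -/
def Good {X S : Scheme.{u}} (f : X ⟶ S) (g : ℕ) (s : S) : Prop :=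
  GeometricallyIntegral (f.fiberToSpecResidueField s) ∧ topologicalKrullDim ↥(f.fiber s) = 1 ∧ fgenus f s = g

section BaseChange

variable {X S X' S' : Scheme.{u}} {f : X ⟶ S} {g' : X' ⟶ X} {f' : X' ⟶ S'} {v : S' ⟶ S}

theorem krullDim_bc {k K : Type u} [Field k] [Field K] {W Z : Scheme.{u}} {m : W ⟶ Z}
    {q : W ⟶ Spec (CommRingCat.of K)} {p : Z ⟶ Spec (CommRingCat.of k)} [LocallyOfFiniteType p]
    {φ : CommRingCat.of k ⟶ CommRingCat.of K} (sq : IsPullback m q p (Spec.map φ)) :
    topologicalKrullDim ↥W = topologicalKrullDim ↥Z := by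
  letI : Algebra k K := φ.hom.toAlgebra
  rw [← Groth.Agent.S4642.result (K := K) p,
    IsHomeomorph.topologicalKrullDim_eq _ (Scheme.Hom.homeomorph sq.isoPullback.hom).isHomeomorph]
  rfl

theorem krullDim_fiber_eq [LocallyOfFiniteType f] (sq : IsPullback g' f' f v) (s : S') :
    topologicalKrullDim ↥(f'.fiber s) = topologicalKrullDim ↥(f.fiber (v s)) := by
  haveI : LocallyOfFiniteType (f.fiberToSpecResidueField (v s)) :=
    MorphismProperty.pullback_snd _ _ inferInstance
  exact krullDim_bc (k := S.residueField (v s)) (K := S'.residueField s)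
    (isPullback_fiberToSpecResidueField_of_isPullback sq s)

theorem fgenus_eq [IsProper f] (sq : IsPullback g' f' f v) (s : S')
    (hdim : topologicalKrullDim ↥(f.fiber (v s)) = 1)
    [GeometricallyIntegral (f.fiberToSpecResidueField (v s))] :
    fgenus f' s = fgenus f (v s) := by
  have sq' := isPullback_fiberToSpecResidueField_of_isPullback sq s
  letI : Algebra (S.residueField (v s)) (S'.residueField s) := (v.residueFieldMap s).hom.toAlgebra
  letI : (f.fiber (v s)).Over (Spec (S.residueField (v s))) := ⟨f.fiberToSpecResidueField (v s)⟩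
  letI : (f'.fiber s).Over (Spec (S'.residueField s)) := ⟨f'.fiberToSpecResidueField s⟩
  haveI : IsProper (f.fiberToSpecResidueField (v s)) := MorphismProperty.pullback_snd _ _ inferInstance
  haveI : IsProper (f.fiber (v s) ↘ Spec (S.residueField (v s))) := ‹_›
  haveI := GeomIrr.geometricallyConnected_of_irreducible (f.fiberToSpecResidueField (v s))
  haveI : GeometricallyConnected (f.fiber (v s) ↘ Spec (S.residueField (v s))) := ‹_›
  haveI : GeometricallyReduced (f.fiber (v s) ↘ Spec (S.residueField (v s))) :=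
    inferInstanceAs (GeometricallyReduced (f.fiberToSpecResidueField (v s)))
  have h0 := Groth.Agent.S1536.result (S.residueField (v s)) (f.fiber (v s))
  exact (Groth.Agent.S0223.result (S.residueField (v s)) (f.fiber (v s)) hdim h0 (S'.residueField s)
    (f'.fiber s) _ sq').2

theorem Good.pull [IsProper f] (sq : IsPullback g' f' f v) {g : ℕ} {s : S'} (h : Good f g (v s)) :
    Good f' g s := by
  obtain ⟨h1, h2, h3⟩ := h
  haveI := h1
  exact ⟨MorphismProperty.of_isPullback (P := @GeometricallyIntegral)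
      (isPullback_fiberToSpecResidueField_of_isPullback sq s) h1,
    (krullDim_fiber_eq sq s).trans h2, (fgenus_eq sq s h2).trans h3⟩

theorem good_of_pull [IsProper f] [Smooth f] [GeometricallyConnected f'] (sq : IsPullback g' f' f v) {g : ℕ}
    (s : S') (hdim : topologicalKrullDim ↥(f'.fiber s) = 1) (hg : fgenus f' s = g) : Good f g (v s) := by
  have sq' := isPullback_fiberToSpecResidueField_of_isPullback sq s
  haveI : GeometricallyConnected (f.fiberToSpecResidueField (v s)) :=
    geometricallyConnected_descend (k := S.residueField (v s)) (K := S'.residueField s) sq'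
  haveI : IsProper (f.fiberToSpecResidueField (v s)) := MorphismProperty.pullback_snd _ _ inferInstance
  haveI : Smooth (f.fiberToSpecResidueField (v s)) := MorphismProperty.pullback_snd _ _ inferInstance
  letI : (f.fiber (v s)).Over (Spec (CommRingCat.of (S.residueField (v s)))) := ⟨f.fiberToSpecResidueField (v s)⟩
  haveI : IsProper (f.fiber (v s) ↘ Spec (CommRingCat.of (S.residueField (v s)))) := ‹_›
  haveI : Smooth (f.fiber (v s) ↘ Spec (CommRingCat.of (S.residueField (v s)))) := ‹_›
  haveI : GeometricallyConnected (f.fiber (v s) ↘ Spec (CommRingCat.of (S.residueField (v s)))) := ‹_›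
  haveI hGI : GeometricallyIntegral (f.fiberToSpecResidueField (v s)) :=
    AmpleFib.geometricallyIntegral_of_smooth_connected (k := S.residueField (v s)) (X := f.fiber (v s))
  have h2 := (krullDim_fiber_eq sq s).symm.trans hdim
  exact ⟨hGI, h2, (fgenus_eq sq s h2).symm.trans hg⟩

end BaseChange

section Open

variable {X S : Scheme.{u}} (f : X ⟶ S) [IsProper f] [LocallyOfFinitePresentation f]

theorem eulerChar_eq_of_curve (s : S) [GeometricallyIntegral (f.fiberToSpecResidueField s)]
    (hdim : topologicalKrullDim ↥(f.fiber s) = 1) :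
    PerfAux.eulerChar f (Coh.structureModule X) s = 1 - (fgenus f s : ℤ) := by
  letI : (f.fiber s).Over (Spec (S.residueField s)) := ⟨f.fiberToSpecResidueField s⟩
  haveI : IsProper (f.fiberToSpecResidueField s) := MorphismProperty.pullback_snd _ _ inferInstance
  haveI : IsProper (f.fiber s ↘ Spec (S.residueField s)) := ‹_›
  haveI := GeomIrr.geometricallyConnected_of_irreducible (f.fiberToSpecResidueField s)
  haveI : GeometricallyConnected (f.fiber s ↘ Spec (S.residueField s)) := ‹_›
  haveI : GeometricallyReduced (f.fiber s ↘ Spec (S.residueField s)) :=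
    inferInstanceAs (GeometricallyReduced (f.fiberToSpecResidueField s))
  haveI : IsLocallyNoetherian (f.fiber s) := LocallyOfFiniteType.isLocallyNoetherian (f.fiberToSpecResidueField s)
  haveI : AlgebraicGeometry.IsNoetherian (f.fiber s) := {}
  haveI : (f.fiber s).IsSeparated := VB17.isSeparated_of_over (k := S.residueField s)
  have hb : ∀ i : ℕ, PerfAux.betti f (Coh.structureModule X) s i =
      Module.finrank (S.residueField s) (Coh.HH (f.fiber s) (Coh.structureModule (f.fiber s)) i) := fun i =>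
    (CurveCoh17.hequiv (S.residueField s) (Twist.pullbackUnitIso (f.fiberι s)) i).finrank_eq
  have h0 := Groth.Agent.S1536.result (S.residueField s) (f.fiber s)
  rw [PerfAux.eulerChar, finsum_eq_finsetSum_of_support_subset _ (s := Finset.range 2)]
  · rw [Finset.sum_range_succ, Finset.sum_range_one, hb, hb, h0]
    simp [fgenus, Curv2.genus]
    ring
  · intro i hi
    simp only [Function.mem_support, ne_eq, Finset.coe_range, Set.mem_Iio] at hi ⊢
    by_contra h2
    obtain ⟨j, rfl⟩ : ∃ j, i = j + 2 := ⟨i - 2, by omega⟩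
    haveI := CurveCoh17.subsingleton_HH_of_dim hdim.le (Coh.structureModule (f.fiber s))
      (M1.isQCoh_structureModule _) j
    exact hi (by rw [hb, Module.finrank_zero_of_subsingleton]; simp)

theorem setOf_nontrivial_stalk (s : S) :
    {z : ↥(f.fiber s) | Nontrivial (((Scheme.Modules.pullback (f.fiberι s)).obj
      (Coh.structureModule X)).presheaf.stalk z)} = Set.univ := by
  refine Set.eq_univ_of_forall fun z => ?_
  let e := (TopCat.Presheaf.stalkFunctor AddCommGrpCat.{u} z).mapIso
    ((Scheme.Modules.toPresheaf (f.fiber s)).mapIso (Twist.pullbackUnitIso (f.fiberι s)))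
  haveI : Nontrivial ((Coh.structureModule (f.fiber s)).presheaf.stalk z) := by
    obtain ⟨e'⟩ := CurveCoh17.nonempty_stalk_equiv_structureModule (X := f.fiber s) z
    exact e'.toEquiv.nontrivial
  exact @Equiv.nontrivial _ _ e.addCommGroupIsoToAddEquiv.toEquiv this

theorem isOpen_good [Flat f] (g : ℕ) : IsOpen {s : S | Good f g s} := by
  have hfp : CohB1.IsFP (Coh.structureModule X) := CurveR1_10.isFP_structure
  have hfl : FlatMod.IsFlatOver f (Coh.structureModule X) := CurveR1_10.isFlatOver_structure f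
  refine isOpen_iff_forall_mem_open.2 fun s ⟨hs1, hs2, hs3⟩ => ?_
  obtain ⟨W₁, hW₁, hsW₁, hW₁eq⟩ := (IsLocallyConstant.iff_exists_open _).1
    (FibDepth5.isLocallyConstant_supportDim f _ hfp hfl) s
  obtain ⟨W₂, hW₂, hsW₂, hW₂eq⟩ := (IsLocallyConstant.iff_exists_open _).1
    (FibEuler9.isLocallyConstant_eulerChar f _ hfp hfl) s
  refine ⟨{y | GeometricallyIntegral (f.fiberToSpecResidueField y)} ∩ (W₁ ∩ W₂), ?_,
    (Groth.Agent.S2553.result f).inter (hW₁.inter hW₂), hs1, hsW₁, hsW₂⟩
  rintro y ⟨hy, hy1, hy2⟩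
  haveI : GeometricallyIntegral (f.fiberToSpecResidueField y) := hy
  haveI := hs1
  have huniv : ∀ t : S, topologicalKrullDim ↥{z : ↥(f.fiber t) | Nontrivial (((Scheme.Modules.pullback (f.fiberι t)).obj
      (Coh.structureModule X)).presheaf.stalk z)} = topologicalKrullDim ↥(f.fiber t) := fun t => by
    rw [setOf_nontrivial_stalk f t]
    exact IsHomeomorph.topologicalKrullDim_eq _ (Homeomorph.Set.univ _).isHomeomorph
  have hd : topologicalKrullDim ↥(f.fiber y) = 1 := by
    have := hW₁eq y hy1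
    simp only [huniv] at this
    exact this.trans hs2
  have he := hW₂eq y hy2
  rw [eulerChar_eq_of_curve f y hd, eulerChar_eq_of_curve f s hs2, hs3] at he
  exact ⟨hy, hd, by omega⟩

end Open

theorem exists_smooth_proper_model {A : Type u} [CommRing A] {X : Scheme.{u}} (f : X ⟶ Spec (CommRingCat.of A))
    [IsProper f] [Smooth f] :
    ∃ A₀ : Subalgebra ℤ A, A₀.FG ∧ ∃ (X₀ : Scheme.{u}) (f₀ : X₀ ⟶ Spec (CommRingCat.of ↥A₀)) (g : X ⟶ X₀),
      Smooth f₀ ∧ IsProper f₀ ∧ IsPullback g f f₀ (Spec.map (CommRingCat.ofHom (algebraMap (↥A₀) A))) := by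
  obtain ⟨A₀, hA₀, X₀, f₀, g, -, hpr, hfp, hg⟩ := GeomSmoothing3.exists_proper_flat_model f
  haveI := hpr
  haveI := hfp
  let D := (Descend.fgRing A).op ⋙ Scheme.Spec
  let c : Cone D := Scheme.Spec.mapCone (Descend.fgCocone A).op
  have hc : IsLimit c := isLimitOfPreserves Scheme.Spec (Descend.isColimitFgCocone A).op
  haveI : ∀ i, IsAffine (D.obj i) := fun i => inferInstanceAs (IsAffine (Spec _))
  haveI : ∀ {i j} (a : i ⟶ j), IsAffineHom (D.map a) := fun a => inferInstance
  haveI : IsCofiltered (Descend.FgIdx A)ᵒᵖ := by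
    haveI : IsFiltered (Descend.FgIdx A) := isFiltered_of_directed_le_nonempty _
    infer_instance
  let i : (Descend.FgIdx A)ᵒᵖ := op ⟨A₀, hA₀⟩
  let c' : Cone (Over.forget i ⋙ D) := c.whisker (Over.forget i)
  have hc' : IsLimit c' := (Functor.Initial.isLimitWhiskerEquiv (Over.forget i) c).symm hc
  haveI : CompactSpace (D.obj i) := inferInstance
  haveI : CompactSpace X₀ := QuasiCompact.compactSpace_of_compactSpace f₀
  haveI : ∀ k, IsAffineHom ((Descend.overT D i).app k) := fun k => inferInstanceAs (IsAffineHom (D.map k.hom))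
  have hq' : ∀ k, c'.π.app k ≫ (Descend.overT D i).app k = (c.π.app i : c'.pt ⟶ D.obj i) := fun k => c.w k.hom
  haveI : LocallyOfFinitePresentation (f₀ : X₀ ⟶ D.obj i) := hfp
  haveI : Smooth (f : X ⟶ c'.pt) := ‹Smooth f›
  obtain ⟨k, hk⟩ := Descend.exists_smooth (t := Descend.overT D i) (f := (f₀ : X₀ ⟶ D.obj i))
    (q := (c.π.app i : c'.pt ⟶ D.obj i)) (g := (f : X ⟶ c'.pt)) hc' hq' hg
  have hsq : IsPullback (pullback.lift g (f ≫ c.π.app k.left) (by
      rw [Category.assoc, show c.π.app k.left ≫ (Descend.overT D i).app k = c.π.app i from c.w k.hom]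
      exact hg.w))
      f (pullback.snd (f₀ : X₀ ⟶ D.obj i) ((Descend.overT D i).app k)) (c.π.app k.left) := by
    refine IsPullback.of_right ?_ (pullback.lift_snd _ _ _) (IsPullback.of_hasPullback _ _)
    rw [pullback.lift_fst, show c.π.app k.left ≫ (Descend.overT D i).app k = c.π.app i from c.w k.hom]
    exact hg
  exact ⟨k.left.unop.1, k.left.unop.2, _, pullback.snd (f₀ : X₀ ⟶ D.obj i) ((Descend.overT D i).app k), _, hk,
    MorphismProperty.pullback_snd (P := @IsProper) _ _ hpr, hsq⟩

/-- An open set containing the image of `Spec A` contains the whole spectrum of some larger finitely generated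
subring. -/
theorem exists_le_mem_open {A : Type u} [CommRing A] {A₀ : Subalgebra ℤ A} (hA₀ : A₀.FG)
    (U : (Spec (CommRingCat.of ↥A₀)).Opens)
    (hU : ∀ x : Spec (CommRingCat.of A), Spec.map (CommRingCat.ofHom (algebraMap (↥A₀) A)) x ∈ U) :
    ∃ (A₁ : Subalgebra ℤ A) (h : A₀ ≤ A₁), A₁.FG ∧
      ∀ x : Spec (CommRingCat.of ↥A₁), Spec.map (CommRingCat.ofHom (Subalgebra.inclusion h).toRingHom) x ∈ U := by
  classical
  obtain ⟨I, hI⟩ := (PrimeSpectrum.isClosed_iff_zeroLocus_ideal _).1
    (U.isOpen.isClosed_compl : IsClosed ((U.1 : Set (PrimeSpectrum ↥A₀))ᶜ))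
  have h1 : (1 : A) ∈ Submodule.span A (algebraMap (↥A₀) A '' (I : Set ↥A₀)) := by
    have htop : I.map (algebraMap (↥A₀) A) = ⊤ := by
      by_contra hne
      obtain ⟨m, hm, hle⟩ := Ideal.exists_le_maximal _ hne
      have h2 := hU (⟨m, hm.isPrime⟩ : PrimeSpectrum A)
      have h3 : PrimeSpectrum.comap (algebraMap (↥A₀) A) ⟨m, hm.isPrime⟩ ∈ PrimeSpectrum.zeroLocus (I : Set ↥A₀) :=
        fun a ha => hle (Ideal.mem_map_of_mem _ ha)
      exact (Set.ext_iff.1 hI _).2 h3 h2
    exact (Ideal.eq_top_iff_one _).1 htop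
  obtain ⟨n, c, b, hb, hsum⟩ : ∃ (n : ℕ) (c : Fin n → A) (b : Fin n → ↥A₀), (∀ i, b i ∈ I) ∧
      ∑ i, c i * algebraMap (↥A₀) A (b i) = 1 := by
    obtain ⟨n, c, b', hs⟩ := Submodule.mem_span_set'.1 h1
    choose b hb hb' using fun i => (b' i).2
    exact ⟨n, c, b, hb, by simpa only [hb', smul_eq_mul] using hs⟩
  refine ⟨A₀ ⊔ Algebra.adjoin ℤ (Set.range c), le_sup_left,
    hA₀.sup (by
      rw [show Set.range c = ↑(Finset.univ.image c) by simp]
      exact Subalgebra.fg_adjoin_finset _), fun x => ?_⟩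
  by_contra hx
  have hx' : (x : PrimeSpectrum ↥(A₀ ⊔ Algebra.adjoin ℤ (Set.range c))).comap
      (Subalgebra.inclusion (le_sup_left : A₀ ≤ A₀ ⊔ Algebra.adjoin ℤ (Set.range c))).toRingHom ∈
      PrimeSpectrum.zeroLocus (I : Set ↥A₀) := hI ▸ hx
  apply x.isPrime.ne_top
  rw [Ideal.eq_top_iff_one]
  have hc : ∀ i, c i ∈ A₀ ⊔ Algebra.adjoin ℤ (Set.range c) := fun i =>
    (le_sup_right : Algebra.adjoin ℤ (Set.range c) ≤ _) (Algebra.subset_adjoin ⟨i, rfl⟩)
  have e : (1 : ↥(A₀ ⊔ Algebra.adjoin ℤ (Set.range c))) =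
      ∑ i, ⟨c i, hc i⟩ * Subalgebra.inclusion le_sup_left (b i) := by
    apply Subtype.ext
    push_cast
    exact hsum.symm
  rw [e]
  exact Ideal.sum_mem _ fun i _ => Ideal.mul_mem_left _ _ (hx' (hb i))

theorem exists_model {A : Type u} [CommRing A] {X : Scheme.{u}} (f : X ⟶ Spec (CommRingCat.of A))
    [IsProper f] [Smooth f] [GeometricallyConnected f]
    (hdim : ∀ s, topologicalKrullDim ↥(f.fiber s) = 1) (g : ℕ) (hgen : ∀ s, fgenus f s = g) :
    ∃ A₁ : Subalgebra ℤ A, A₁.FG ∧ ∃ (X₁ : Scheme.{u}) (f₁ : X₁ ⟶ Spec (CommRingCat.of ↥A₁)) (v : X ⟶ X₁),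
      IsPullback v f f₁ (Spec.map (CommRingCat.ofHom (algebraMap (↥A₁) A))) ∧ IsProper f₁ ∧ Smooth f₁ ∧
        ∀ s, Good f₁ g s := by
  obtain ⟨A₀, hA₀, X₀, f₀, v, hsm, hpr, hsq⟩ := exists_smooth_proper_model f
  haveI := hsm
  haveI := hpr
  obtain ⟨A₁, hle, hA₁, hU⟩ := exists_le_mem_open hA₀ ⟨{s | Good f₀ g s}, isOpen_good f₀ g⟩
    (fun x => good_of_pull hsq x (hdim x) (hgen x))
  let w := Spec.map (CommRingCat.ofHom (Subalgebra.inclusion hle).toRingHom)
  have hw : Spec.map (CommRingCat.ofHom (algebraMap (↥A₁) A)) ≫ w =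
      Spec.map (CommRingCat.ofHom (algebraMap (↥A₀) A)) := by
    rw [← Spec.map_comp]; rfl
  refine ⟨A₁, hA₁, pullback f₀ w, pullback.snd f₀ w,
    pullback.lift v (f ≫ Spec.map (CommRingCat.ofHom (algebraMap (↥A₁) A)))
      (by rw [Category.assoc, hw]; exact hsq.w), ?_, inferInstance, inferInstance,
    fun s => (hU s).pull (IsPullback.of_hasPullback f₀ w)⟩
  refine IsPullback.of_right ?_ (pullback.lift_snd _ _ _) (IsPullback.of_hasPullback f₀ w)
  rw [pullback.lift_fst, hw]
  exact hsq

end Groth.Agent.CurveModel9
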